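import Groth.Agent.S4148
import Groth.Agent.S5510
import Groth.Agent.S5550
import Groth.Agent.BorelLib.RedTorus
import Groth.Agent.TorsTupleLib.SubMax
import Groth.Agent.TorsTupleLib.CentreTori
import Groth.Agent.GITAffLib.Setup

/-!
Radicals of reductive subgroups of type (R): common lemmas.
-/

set_option autoImplicit false
set_option linter.style.haveILetI false
set_option linter.unusedSectionVars false
set_option backward.isDefEq.respectTransparency false
set_option backward.isDefEq.respectTransparency.types false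
set_option maxHeartbeats 2000000
set_option synthInstance.maxHeartbeats 400000

noncomputable section

universe u

open CategoryTheory CategoryTheory.Limits MonoidalCategory CartesianMonoidalCategory AlgebraicGeometry
open scoped MonObj

attribute [-instance] CategoryTheory.Hom.commGroup

namespace Groth.Agent.RadLib

open Groth.Agent.BorelLib
open MultEq (LE)
open Groth.Agent.TorsTuple (bcMul bcMul_comp bcMul_precomp)

attribute [local instance] BorelLib.pTop BorelLib.pTopTensor

variable {S : Scheme.{u}}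

/-- Two centralisers are isomorphic over the group. -/
theorem exists_iso_centralizer {G H Z Z' : Over S} [GrpObj G] [GrpObj H] [GrpObj Z] [GrpObj Z'] {i : H ⟶ G}
    {z : Z ⟶ G} {z' : Z' ⟶ G} (hz : Red.IsCentralizerOf i z) (hz' : Red.IsCentralizerOf i z') :
    ∃ e : Z ≅ Z', e.hom ≫ z' = z ∧ IsMonHom e.hom := by
  haveI := hz.1; haveI := hz.2.1; haveI := hz'.1; haveI := hz'.2.1
  obtain ⟨a, ha⟩ := (hz'.2.2 Z z).2 ((hz.2.2 Z z).1 ⟨𝟙 _, Category.id_comp _⟩)
  obtain ⟨b, hb⟩ := (hz.2.2 Z' z').2 ((hz'.2.2 Z' z').1 ⟨𝟙 _, Category.id_comp _⟩)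
  refine ⟨⟨a, b, (cancel_mono z).1 (by rw [Category.assoc, hb, ha, Category.id_comp]),
    (cancel_mono z').1 (by rw [Category.assoc, ha, hb, Category.id_comp])⟩, ha, ?_⟩
  haveI : IsMonHom (a ≫ z') := by rw [ha]; infer_instance
  exact DiagRep.isMonHom_of_comp_mono a z'

/-- Multiplicative type is invariant under isomorphisms. -/
theorem isMultTypeFT_of_grpIso {H H' : Over S} [GrpObj H] [GrpObj H'] (e : H ≅ H') [IsMonHom e.hom]
    (h : SGA3x.IsMultTypeFT H) : SGA3x.IsMultTypeFT H' := by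
  obtain ⟨S', f, h1, h2, h3, hloc⟩ := h
  refine ⟨S', f, h1, h2, h3, fun x => ?_⟩
  obtain ⟨U, hU, M, _, hfg, ⟨w⟩⟩ := hloc x
  let g := U.ι ≫ f
  haveI : IsMonHom (M := Red.bc g H) (N := Red.bc g H') ((Over.pullback g).map e.hom) :=
    DiagRep.isMonHom_bc_map g e.hom
  let e' : Red.bc g H ≅ Red.bc g H' := (Over.pullback g).mapIso e
  haveI : IsMonHom e'.hom := inferInstanceAs (IsMonHom ((Over.pullback g).map e.hom))
  haveI : IsMonHom e'.inv := inferInstance
  exact ⟨U, hU, M, inferInstance, hfg, ⟨(Grp.mkIso' e').symm ≪≫ w⟩⟩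

/-- The centre of a reductive group is of multiplicative type. -/
theorem isMultTypeFT_centre {G Z : Over S} [GrpObj G] [GrpObj Z] (hG : Red.IsReductive G) {j : Z ⟶ G}
    (hj : Red.IsCentre j) : SGA3x.IsMultTypeFT Z := by
  obtain ⟨Z', _, j', hj', -, hm⟩ := S5510.result G hG
  obtain ⟨e, -, he⟩ := exists_iso_centralizer hj' hj
  haveI := he
  exact isMultTypeFT_of_grpIso e hm

/-- The centraliser of a subtorus of a reductive group is reductive. -/
theorem isReductive_centralizer {G Q Z : Over S} [GrpObj G] [GrpObj Q] [GrpObj Z] (hG : Red.IsReductive G)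
    (q : Q ⟶ G) [IsMonHom q] [Mono q] (hQ : Red.IsTorus Q) {z : Z ⟶ G} (hz : Red.IsCentralizerOf q z) :
    Red.IsReductive Z := by
  obtain ⟨Z', _, z', hz', -, hred⟩ := S5550.result hG q hQ
  obtain ⟨e, -, he⟩ := exists_iso_centralizer hz' hz
  haveI := he
  exact GITAffLib.isReductive_of_iso e hred

/-- **A maximal torus of a group of multiplicative type contains every subtorus.** -/
theorem exists_factor_maxTorus {H R Q : Over S} [GrpObj H] [GrpObj R] [GrpObj Q] (hH : SGA3x.IsMultTypeFT H)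
    {r : R ⟶ H} (hr : Red.IsMaximalTorus r) (j : Q ⟶ H) [IsMonHom j] [Mono j] (hQ : Red.IsTorus Q) :
    ∃ f : Q ⟶ R, f ≫ r = j := by
  haveI := hr.1; haveI := hr.2.1
  obtain ⟨T, _, i, hi, huniv⟩ := S4148.result S H hH
  haveI := hi.1; haveI := hi.2.1
  obtain ⟨m, hm⟩ := huniv R r hr.2.2.1
  obtain ⟨f₀, hf₀⟩ := huniv Q j hQ
  haveI : IsMonHom (m ≫ i) := by rw [hm]; infer_instance
  haveI : IsMonHom m := DiagRep.isMonHom_of_comp_mono m i
  haveI : Mono (m ≫ i) := by rw [hm]; infer_instance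
  haveI : Mono m := mono_of_mono m i
  haveI : IsAffineHom T.hom := MultEq.isAffineHom_of_isMultTypeFT (RedRank.isMultTypeFT_of_isTorus hi.2.2.1)
  haveI : IsClosedImmersion m.left :=
    Transporter.isClosedImmersion_of_mono (RedRank.locally_of_isTorus hr.2.2.1) ‹IsAffineHom T.hom› m
  haveI := EqNhd.flat_of_isMultTypeFT (RedRank.isMultTypeFT_of_isTorus hr.2.2.1)
  haveI := MultEq.lfp_of_isMultTypeFT (RedRank.isMultTypeFT_of_isTorus hr.2.2.1)
  haveI := MultEq.lfp_of_isMultTypeFT (RedRank.isMultTypeFT_of_isTorus hi.2.2.1)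
  haveI : IsIso m := RCentre.isIso_of_le_fibres m fun s => by
    let ξ := Red.geomPt s
    haveI := DiagRep.isMonHom_bc_map ξ i
    haveI := mono_bc ξ i
    haveI : IsIso ((Over.pullback ξ).map m) := hr.2.2.2 s (Red.bc ξ T) ((Over.pullback ξ).map i) _
      (RedRank.isTorus_bc hi.2.2.1 ξ) (by rw [← Functor.map_comp, hm])
    have hle : LE (𝟙 T) m ξ := RedRank.le_of_bc_factor (𝟙 T) m ξ (CategoryTheory.inv ((Over.pullback ξ).map m))
      (by rw [IsIso.inv_hom_id, CategoryTheory.Functor.map_id])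
    exact RedRank.geomPt_apply s ▸ (MultEq.le_field_iff ξ).1 hle
  exact ⟨f₀ ≫ inv m, by rw [← hm, Category.assoc, IsIso.inv_hom_id_assoc, hf₀]⟩

/-- **A maximal torus of a subgroup of type (R) is maximal in the group, after any base change.** -/
theorem isMaximalTorus_comp_typeR {G H : Over S} [GrpObj G] [GrpObj H] [Smooth G.hom] [QuasiCompact G.hom]
    {i : H ⟶ G} (hi : RedSub.IsTypeR i) {P : Scheme.{u}} (f : P ⟶ S) {T : Over P} [GrpObj T]
    {t : T ⟶ Red.bc f H} (ht : Red.IsMaximalTorus t) :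
    Red.IsMaximalTorus (t ≫ (Over.pullback f).map i) := by
  obtain ⟨⟨him, himm⟩, hHs, hHq, -, hHT⟩ := hi
  haveI := him; haveI := himm; haveI := hHs; haveI := hHq
  haveI := ht.1; haveI := ht.2.1
  haveI : Mono i := Over.mono_of_mono_left i
  haveI := DiagRep.isMonHom_bc_map f i
  haveI := mono_bc f i
  refine ⟨inferInstance, mono_comp _ _, ht.2.2.1, fun p R _ J _ _ g hR hg => ?_⟩
  let ξ := Red.geomPt p
  let q := ξ ≫ f
  obtain ⟨l, hl⟩ := _root_.MaxTorusRank.exists_lift_geomPt q (q (IsLocalRing.closedPoint _)) rfl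
  obtain ⟨T₀, _, t₀, ht₀m, ht₀⟩ := hHT (q (IsLocalRing.closedPoint _))
  haveI := ht₀m
  let s := q (IsLocalRing.closedPoint _)
  haveI : Smooth (Red.geomFibre s G).hom := MorphismProperty.pullback_snd (P := @Smooth) _ _ inferInstance
  haveI : QuasiCompact (Red.geomFibre s G).hom := MorphismProperty.pullback_snd (P := @QuasiCompact) _ _ inferInstance
  haveI : Smooth (Red.bc f G).hom := MorphismProperty.pullback_snd (P := @Smooth) _ _ inferInstance
  haveI : QuasiCompact (Red.bc f G).hom := MorphismProperty.pullback_snd (P := @QuasiCompact) _ _ inferInstance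
  haveI : Smooth (Red.bc f H).hom := MorphismProperty.pullback_snd (P := @Smooth) _ _ inferInstance
  haveI : QuasiCompact (Red.bc f H).hom := MorphismProperty.pullback_snd (P := @QuasiCompact) _ _ inferInstance
  haveI : Smooth (Red.bc ξ (Red.bc f G)).hom := MorphismProperty.pullback_snd (P := @Smooth) _ _ inferInstance
  haveI : QuasiCompact (Red.bc ξ (Red.bc f G)).hom := MorphismProperty.pullback_snd (P := @QuasiCompact) _ _ inferInstance
  haveI : Smooth (Red.bc ξ (Red.bc f H)).hom := MorphismProperty.pullback_snd (P := @Smooth) _ _ inferInstance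
  haveI : QuasiCompact (Red.bc ξ (Red.bc f H)).hom := MorphismProperty.pullback_snd (P := @QuasiCompact) _ _ inferInstance
  -- the torus given by type (R), over the point above `p`
  let eG : Red.bc l (Red.geomFibre s G) ≅ Red.bc ξ (Red.bc f G) :=
    ActBC.bcCompIso l (Red.geomPt s) G hl ≪≫ (ActBC.bcCompIso ξ f G rfl).symm
  let eH : Red.bc l (Red.geomFibre s H) ≅ Red.bc ξ (Red.bc f H) :=
    ActBC.bcCompIso l (Red.geomPt s) H hl ≪≫ (ActBC.bcCompIso ξ f H rfl).symm
  haveI : IsMonHom (ActBC.bcCompIso l (Red.geomPt s) G hl).hom := ActBC.bcCompIso_isMonHom _ _ _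
  haveI : IsMonHom (ActBC.bcCompIso l (Red.geomPt s) H hl).hom := ActBC.bcCompIso_isMonHom _ _ _
  haveI : IsMonHom (ActBC.bcCompIso ξ f G rfl).hom := ActBC.bcCompIso_isMonHom _ _ _
  haveI : IsMonHom (ActBC.bcCompIso ξ f H rfl).hom := ActBC.bcCompIso_isMonHom _ _ _
  haveI : IsMonHom eG.hom := by
    show IsMonHom ((ActBC.bcCompIso l (Red.geomPt s) G hl).hom ≫ (ActBC.bcCompIso ξ f G rfl).inv); infer_instance
  haveI : IsMonHom eH.hom := by
    show IsMonHom ((ActBC.bcCompIso l (Red.geomPt s) H hl).hom ≫ (ActBC.bcCompIso ξ f H rfl).inv); infer_instance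
  let iK : Red.bc ξ (Red.bc f H) ⟶ Red.bc ξ (Red.bc f G) := (Over.pullback ξ).map ((Over.pullback f).map i)
  haveI : IsMonHom iK := DiagRep.isMonHom_bc_map ξ _
  haveI : Mono iK := mono_bc ξ _
  have hnat : (Over.pullback l).map ((Over.pullback (Red.geomPt s)).map i) ≫ eG.hom = eH.hom ≫ iK := by
    simp only [eG, eH, iK, Iso.trans_hom, Iso.symm_hom, Category.assoc]
    rw [← Category.assoc, ActBC.bcCompIso_hom_naturality, Category.assoc]
    congr 1
    rw [Iso.eq_inv_comp, ← Category.assoc, ← ActBC.bcCompIso_hom_naturality, Category.assoc, Iso.hom_inv_id,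
      Category.comp_id]
  have h₁ := MaxTorConj.isMaximalTorus_iso eG (MaxTorConj.isMaximalTorus_bc ht₀ l)
  haveI := DiagRep.isMonHom_bc_map l t₀
  have h₁' : Red.IsMaximalTorus (((Over.pullback l).map t₀ ≫ eH.hom) ≫ iK) := by
    rw [Category.assoc, ← hnat, ← Category.assoc, ← Functor.map_comp]
    exact h₁
  have h₂ := TorsTuple.isMaximalTorus_of_sub iK h₁' (MaxTorConj.isMaximalTorus_bc ht ξ)
  exact (BorelLib.isMaxTorus_of_isMaximalTorus h₂).2.2.2 R J g hR (by rw [hg, Functor.map_comp])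

/-- **What commutes with a reductive subgroup of type (R) lies in it.** -/
theorem exists_factor_of_commute {G H : Over S} [GrpObj G] [GrpObj H] (hG : Red.IsReductive G)
    {i : H ⟶ G} (hi : RedSub.IsTypeR i) (hH : Red.IsReductive H) {X : Over S} (c : X ⟶ G)
    (hc : ∀ (X' : Over S) (x : X' ⟶ X) (h : X' ⟶ H), (x ≫ c) * (h ≫ i) = (h ≫ i) * (x ≫ c)) :
    ∃ l : X ⟶ H, l ≫ i = c := by
  haveI := hG.1; haveI := hG.2.1
  haveI := hi.1.1; haveI := hi.1.2
  have h0 := TorsTuple.unipotentRankZero_of_isReductive hG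
  obtain ⟨S', f, hf, hfs, T, hT, t, ht⟩ := TorsTuple.hasMaxTorus_of_isReductive hH
  haveI := hf; haveI := hfs; letI := hT
  suffices hle : LE c i (𝟙 S) by
    obtain ⟨l, hl⟩ := hle X X.hom (Category.comp_id _) (𝟙 X)
    exact ⟨l, hl.trans (Category.id_comp c)⟩
  refine MultEq.le_of_family (I := PUnit.{u+1}) (fun _ => f) (fun _ => inferInstance)
    (fun s => ⟨⟨⟩, f.surjective s⟩) fun _ => ?_
  rw [Category.comp_id]
  haveI := RedRank.isAffineHom_bc G f
  haveI : Smooth (Red.bc f G).hom := MorphismProperty.pullback_snd (P := @Smooth) _ _ inferInstance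
  have hmax := isMaximalTorus_comp_typeR hi f ht
  haveI := hmax.1; haveI := hmax.2.1
  intro Y q hq h
  let Y₁ : Over S' := Over.mk q
  let ε : (Over.map f).obj Y₁ ≅ Y := Over.isoMk (Iso.refl _) (by
    show 𝟙 _ ≫ Y.hom = q ≫ f
    rw [Category.id_comp, hq])
  obtain ⟨a, ha⟩ := RCentre.exists_factor_of_selfCent (Red.bc f G) hmax.2.2.1
    (fun p X' x hx => RCentre.selfCent_geom G h0 f hmax (Red.geomPt p) X' x hx) (bcMul f G Y₁ (ε.hom ≫ h ≫ c))
    fun X' x s => by
      obtain ⟨s', hs'⟩ := (bcMul f H X').surjective (s ≫ t)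
      rw [← Category.assoc s, ← hs', bcMul_comp, bcMul_precomp, ← map_mul, ← map_mul]
      congr 1
      simpa only [Category.assoc] using hc _ ((Over.map f).map x ≫ ε.hom ≫ h) s'
  obtain ⟨a', ha'⟩ := (bcMul f H Y₁).surjective (a ≫ t)
  refine ⟨ε.inv ≫ a', ?_⟩
  rw [← Category.assoc, ← ha', bcMul_comp] at ha
  rw [Category.assoc, (bcMul f G Y₁).injective ha, Iso.inv_hom_id_assoc]

end Groth.Agent.RadLib
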